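import Cfsg.Agent.SmallSimple.OrderBound.Table
import Cfsg.Agent.ThreePrimes.SelfCentralizing

/-!
# The search with restricted data, and the orders 420 and 840

For the two orders the search leaves fifteen Sylow 7-subgroups with a centraliser of even order.
An involution centralising one of them either swaps its two long orbits, so is an odd permutation,
or fixes every point.
-/

set_option autoImplicit false
set_option linter.style.haveILetI false
set_option linter.unusedSectionVars false

namespace CfsgLib.OrderBound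

open Subgroup MulAction CfsgLib.SylowCheck

variable {G : Type*} [Group G] [Finite G] [IsSimpleGroup G]

theorem centralizer_index_one (hG : ¬ IsMulCommutative G) {n : ℕ} (hn : Nat.card G = n)
    {e : ℕ × Option (ℕ × ℕ × ℕ × ℕ)} (he : entryB n e = true) {x : Datum} (hx : Real G x)
    (hxe : x.1 = e.1) : keepB e x = true := by
  obtain ⟨p, _ | ⟨u, a, w, b⟩⟩ := e
  · rfl
  simp only [entryB, Bool.and_eq_true, beq_iff_eq, bne_iff_ne] at he
  obtain ⟨⟨⟨hp, -⟩, -⟩, ⟨⟨⟨⟨hu, hw⟩, huw⟩, hup⟩, hwp⟩, heq⟩ := he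
  subst hxe
  haveI : Fact x.1.Prime := ⟨hx.1⟩
  obtain ⟨Q⟩ : Nonempty (Sylow x.1 G) := inferInstance
  obtain ⟨hQ, hC⟩ := hx.2.2.2 Q
  rw [CfsgLib.ThreePrimes.centralizer_eq_self (prime_of_primeB hu) (prime_of_primeB hw) hx.1 huw hup hwp
    (hn.trans heq.symm) (Q : Subgroup G) hQ, hQ] at hC
  simp only [keepB, Bool.or_eq_true, beq_iff_eq]
  exact Or.inr (Nat.eq_of_mul_eq_mul_left hx.1.pos (by rw [mul_one]; exact hC.symm))

theorem mem_divisorList {n k : ℕ} (hn : n ≠ 0) (h : k ∣ n) : k ∈ divisorList n := by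
  simp only [divisorList, List.mem_filter, List.mem_range, Bool.and_eq_true, bne_iff_ne, beq_iff_eq]
  exact ⟨Nat.lt_succ_of_le (Nat.le_of_dvd (Nat.pos_of_ne_zero hn) h),
    fun h0 => hn (by simpa [h0] using h), Nat.mod_eq_zero_of_dvd h⟩

theorem exists_real_keep (hG : ¬ IsMulCommutative G) {n : ℕ} (hn : Nat.card G = n)
    {e : ℕ × Option (ℕ × ℕ × ℕ × ℕ)} (he : entryB n e = true) :
    ∃ x ∈ (opts (divisorList n) n e.1).filter (keepB e), Real G x ∧ x.1 = e.1 := by
  have he' := he
  simp only [entryB, Bool.and_eq_true, beq_iff_eq, bne_iff_ne] at he'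
  obtain ⟨⟨⟨hp, hd⟩, hd2⟩, -⟩ := he'
  obtain ⟨x, hx, hr, hxp⟩ := exists_real hG (divisorList n)
    (fun k hk => mem_divisorList (hn ▸ Nat.card_pos.ne') (hn ▸ hk)) (prime_of_primeB hp)
    (hn ▸ Nat.dvd_of_mod_eq_zero hd)
    (fun h => hd2 (by rw [sq] at h; exact Nat.mod_eq_zero_of_dvd (hn ▸ h)))
  exact ⟨x, List.mem_filter.2 ⟨hn ▸ hx, centralizer_index_one hG hn he hr hxp⟩, hr, hxp⟩

theorem false_of_searchKeep (hG : ¬ IsMulCommutative G) {n : ℕ} (hn : Nat.card G = n)
    (es : List (ℕ × Option (ℕ × ℕ × ℕ × ℕ))) (acc : List Datum) (hes : es.all (entryB n) = true)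
    (hnd : (es.map Prod.fst ++ acc.map Prod.fst).Nodup) (hacc : ∀ x ∈ acc, Real G x)
    (h : searchKeep (divisorList n) n es acc = true) : False := by
  have hD : ∀ k, k ∣ Nat.card G → k ∈ divisorList n := fun k hk =>
    mem_divisorList (hn ▸ Nat.card_pos.ne') (hn ▸ hk)
  induction es generalizing acc with
  | nil =>
    rw [List.map_nil, List.nil_append, List.Nodup, List.pairwise_map] at hnd
    exact false_of_counted hacc hnd (hn.symm ▸ h)
  | cons e es ih =>
    simp only [List.all_cons, Bool.and_eq_true] at hes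
    obtain ⟨x, hx, hxr, hxe⟩ := exists_real_keep hG hn hes.1
    simp only [searchKeep, List.all_eq_true] at h
    rcases Bool.or_eq_true_iff.1 (h x hx) with h' | h'
    · simp only [List.any_eq_true] at h'
      obtain ⟨u, hu, hu'⟩ := h'
      have hne : x.1 ≠ u.1 := fun h => by
        rw [List.map_cons, List.cons_append, List.nodup_cons, ← hxe] at hnd
        exact hnd.1 (h ▸ List.mem_append_right _ (List.mem_map_of_mem hu))
      simp [compat_of_real _ hD hxr (hacc u hu) hne, compat_of_real _ hD (hacc u hu) hxr hne.symm] at hu'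
    · refine ih (x :: acc) hes.2 ?_ ?_ h'
      · rw [List.map_cons, hxe]
        exact (List.perm_middle).nodup_iff.2 hnd
      · intro y hy
        rcases List.mem_cons.1 hy with rfl | hy
        exacts [hxr, hacc y hy]

/-- No involution centralises a Sylow subgroup of prime order `p` with `2 p + 1` conjugates. -/
theorem no_centralizing_involution (hG : ¬ IsMulCommutative G) {p : ℕ} [hp : Fact p.Prime] (hp2 : p % 2 = 1)
    (P : Sylow p G) (hP : Nat.card (P : Subgroup G) = p) (hk : Nat.card (Sylow p G) = 2 * p + 1) {z : G}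
    (hz : orderOf z = 2) (hzC : z ∈ centralizer ((P : Subgroup G) : Set G)) : False := by
  classical
  haveI := Fintype.ofFinite (Sylow p G)
  set φ : G →* Equiv.Perm (Sylow p G) := MulAction.toPermHom G (Sylow p G)
  have hzP : z • P = P := Sylow.smul_eq_iff_mem_normalizer.2 (centralizer_le_normalizer _ hzC)
  have hz2 : z * z = 1 := by rw [← sq, ← hz, pow_orderOf_eq_one]
  have hN : Fintype.card (Sylow p G) = 2 * p + 1 := by rw [← Nat.card_eq_fintype_card, hk]
  have hφ : Function.Injective φ := by
    rcases IsSimpleGroup.eq_bot_or_eq_top_of_normal φ.ker inferInstance with h | h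
    · exact (MonoidHom.ker_eq_bot_iff φ).1 h
    · exfalso
      have h1 : ∀ g : G, g • P = P := fun g => by
        have hg : g ∈ φ.ker := h ▸ mem_top g
        exact DFunLike.congr_fun (MonoidHom.mem_ker.1 hg) P
      haveI : Subsingleton (Sylow p G) := ⟨fun Q R => by
        obtain ⟨g, rfl⟩ := MulAction.exists_smul_eq G P Q
        obtain ⟨g', rfl⟩ := MulAction.exists_smul_eq G P R
        rw [h1, h1]⟩
      have := Nat.card_of_subsingleton (α := Sylow p G) P
      have := hp.out.two_le
      omega
  -- the Sylow subgroup is semiregular away from itself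
  have hreg : ∀ w ∈ (P : Subgroup G), ∀ Q : Sylow p G, Q ≠ P → w • Q = Q → w = 1 := by
    intro w hw Q hQ hwQ
    by_contra hw1
    have hwp : orderOf w = p :=
      ((Nat.dvd_prime hp.out).1 (hP ▸ Subgroup.orderOf_dvd_natCard _ hw)).resolve_left
        fun h => hw1 (orderOf_eq_one_iff.1 h)
    have hwQ' := CfsgLib.SmallSimple.mem_sylow_of_smul_eq (n := 1) (by rw [pow_one, ← hwp, pow_orderOf_eq_one]) Q hwQ
    have hQp : Nat.card (Q : Subgroup G) = p := by rw [Nat.card_congr (Q.equiv P).toEquiv, hP]
    refine hQ (Sylow.ext ?_)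
    exact ((eq_of_le_of_card_ge (zpowers_le.2 hwQ') (by rw [hQp, Nat.card_zpowers, hwp])).symm).trans
      (eq_of_le_of_card_ge (zpowers_le.2 hw) (by rw [hP, Nat.card_zpowers, hwp]))
  have hcomm : ∀ w ∈ (P : Subgroup G), ∀ Q : Sylow p G, z • w • Q = w • z • Q := fun w hw Q => by
    rw [← mul_smul, ← mul_smul, (mem_centralizer_iff.1 hzC w hw)]
  have hneP : ∀ w ∈ (P : Subgroup G), ∀ Q : Sylow p G, Q ≠ P → w • Q ≠ P := fun w hw Q hQ h => hQ (by
    rw [← inv_smul_smul w Q, h]
    exact Sylow.smul_eq_iff_mem_normalizer.2 (le_normalizer (inv_mem hw)))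
  -- a point moved by the involution leaves its orbit
  have hout : ∀ Q : Sylow p G, Q ≠ P → ∀ w ∈ (P : Subgroup G), z • Q = w • Q → z • Q = Q := by
    intro Q hQ w hw h
    have h2 : (w * w) • Q = Q := by
      rw [mul_smul, ← h, ← hcomm w hw, ← h, ← mul_smul, hz2, one_smul]
    have hw2 := hreg _ (mul_mem hw hw) Q hQ h2
    have hw1 : w = 1 := by
      by_contra hw1
      have h3 := ((Nat.dvd_prime hp.out).1 (hP ▸ Subgroup.orderOf_dvd_natCard _ hw)).resolve_left
        fun h => hw1 (orderOf_eq_one_iff.1 h)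
      have h4 : p ∣ 2 := h3 ▸ orderOf_dvd_of_pow_eq_one (by rw [sq, hw2])
      rw [(Nat.prime_dvd_prime_iff_eq hp.out Nat.prime_two).1 h4] at hp2
      omega
    rw [h, hw1, one_smul]
  by_cases hfix : ∃ Q : Sylow p G, Q ≠ P ∧ z • Q = Q
  · -- then everything is fixed
    obtain ⟨Q, hQ, hzQ⟩ := hfix
    have hall : ∀ R : Sylow p G, z • R = R := by
      intro R
      by_contra hR
      have hRP : R ≠ P := fun h => hR (h ▸ hzP)
      have hzR : z • R ≠ P := fun h => hRP (by rw [← inv_smul_smul z R, h, inv_smul_eq_iff, hzP])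
      let base : Fin 3 → Sylow p G := ![Q, R, z • R]
      have hb : ∀ i, base i ≠ P := fun i => by fin_cases i <;> assumption
      let f : Fin 3 × (P : Subgroup G) → {S : Sylow p G // S ≠ P} :=
        fun a => ⟨(a.2 : G) • base a.1, hneP _ a.2.2 _ (hb _)⟩
      have key : ∀ i j : Fin 3, ∀ w ∈ (P : Subgroup G), w • base i = base j → i = j := by
        intro i j w hw h
        have hfixQ : ∀ v ∈ (P : Subgroup G), z • v • Q = v • Q := fun v hv => by rw [hcomm v hv, hzQ]
        have hRQ : ∀ v ∈ (P : Subgroup G), v • Q ≠ R := fun v hv h' => hR (h' ▸ hfixQ v hv)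
        have hzRQ : ∀ v ∈ (P : Subgroup G), v • Q ≠ z • R := fun v hv h' => hR (by
          have h'' : z • z • R = z • R := h' ▸ hfixQ v hv
          rw [← mul_smul, hz2, one_smul] at h''
          exact h''.symm)
        have hRzR : ∀ v ∈ (P : Subgroup G), v • R ≠ z • R := fun v hv h' => hR (hout R hRP v hv h'.symm)
        fin_cases i <;> fin_cases j <;> simp [base] at h ⊢
        · exact hRQ w hw h
        · exact hzRQ w hw h
        · exact hRQ _ (inv_mem hw) (inv_smul_eq_iff.2 h.symm)
        · exact hRzR w hw h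
        · exact hzRQ _ (inv_mem hw) (inv_smul_eq_iff.2 h.symm)
        · exact hRzR _ (inv_mem hw) (inv_smul_eq_iff.2 h.symm)
      have hf : Function.Injective f := by
        rintro ⟨i, a⟩ ⟨j, b⟩ hab
        have hab' : (a : G) • base i = (b : G) • base j := congrArg Subtype.val hab
        have h1 : ((b : G)⁻¹ * a) • base i = base j := by rw [mul_smul, hab', inv_smul_smul]
        obtain rfl := key i j _ (mul_mem (inv_mem b.2) a.2) h1
        have h2 := hreg _ (mul_mem (inv_mem b.2) a.2) _ (hb i) h1
        rw [inv_mul_eq_one] at h2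
        exact Prod.ext rfl (Subtype.ext h2.symm)
      have h3 := Nat.card_le_card_of_injective f hf
      rw [Nat.card_prod, Nat.card_fin, hP, Nat.card_eq_fintype_card, Fintype.card_subtype_compl,
        Fintype.card_subtype_eq, hN] at h3
      have := hp.out.two_le
      omega
    have h1 : φ z = φ 1 := Equiv.ext fun R => by
      show z • R = (1 : G) • R
      rw [hall, one_smul]
    rw [hφ h1, orderOf_one] at hz
    omega
  · -- otherwise the permutation is odd
    simp only [not_exists, not_and] at hfix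
    set s := φ z
    have hs2 : s ^ 2 = 1 := by rw [← map_pow, sq, hz2, map_one]
    have hset : Function.fixedPoints s = {P} := by
      ext Q
      simp only [Function.mem_fixedPoints, Function.IsFixedPt, Set.mem_singleton_iff]
      exact ⟨fun h => by_contra fun hQ => hfix Q hQ h, fun h => h ▸ hzP⟩
    have hsign := Equiv.Perm.sign_of_pow_two_eq_one hs2
    have hc : Fintype.card (Function.fixedPoints s) = 1 := by
      rw [Fintype.card_congr (Equiv.setCongr hset), Fintype.card_unique]
    rw [hc, hN, CfsgLib.SmallSimple.sign_eq_one hG φ z, Nat.add_sub_cancel,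
      Nat.mul_div_cancel_left _ two_pos, Odd.neg_one_pow (Nat.odd_iff.2 hp2)] at hsign
    exact absurd hsign (by decide)

/-- Fifteen Sylow 7-subgroups with centraliser of even order. -/
def exceptB (n : ℕ) (o : Datum) : Bool :=
  (o.2.1 == 15 && o.2.2 % 2 == 0) || searchKeep (divisorList n) n [(5, none), (3, none)] [o]

theorem false_of_seven (hG : ¬ IsMulCommutative G) {n : ℕ} (hn : Nat.card G = n)
    (he : ([(7, none), (5, none), (3, none)] : List (ℕ × Option (ℕ × ℕ × ℕ × ℕ))).all (entryB n) = true)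
    (hcheck : (opts (divisorList n) n 7).all (exceptB n) = true) : False := by
  simp only [List.all_cons, List.all_nil, Bool.and_true, Bool.and_eq_true] at he
  obtain ⟨x, hx, hxr, hx7⟩ := exists_real_keep hG hn he.1
  have h := List.all_eq_true.1 hcheck x (List.mem_filter.1 hx).1
  simp only [exceptB, Bool.or_eq_true, Bool.and_eq_true, beq_iff_eq] at h
  rcases h with ⟨h15, heven⟩ | h
  · obtain ⟨p, k, c⟩ := x
    obtain rfl : p = 7 := hx7
    haveI : Fact (Nat.Prime 7) := ⟨by norm_num⟩
    obtain ⟨P⟩ : Nonempty (Sylow 7 G) := inferInstance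
    obtain ⟨hP, hC⟩ := hxr.2.2.2 P
    haveI : Fact (Nat.Prime 2) := ⟨Nat.prime_two⟩
    obtain ⟨z, hz⟩ := exists_prime_orderOf_dvd_card' (G := centralizer ((P : Subgroup G) : Set G)) 2
      (hC ▸ Dvd.dvd.mul_left (Nat.dvd_of_mod_eq_zero heven) _)
    exact no_centralizing_involution hG (by norm_num) P hP (hxr.2.2.1.trans h15) (z := (z : G))
      (by rw [Subgroup.orderOf_coe, hz]) z.2
  · refine false_of_searchKeep hG hn [(5, none), (3, none)] [x] (by simp [he.2.1, he.2.2]) ?_ ?_ h
    · simp [hx7]
    · simpa using hxr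

theorem false_of_four_twenty (hG : ¬ IsMulCommutative G) (hn : Nat.card G = 420) : False :=
  false_of_seven hG hn (by decide +kernel) (by decide +kernel)

theorem false_of_eight_forty (hG : ¬ IsMulCommutative G) (hn : Nat.card G = 840) : False :=
  false_of_seven hG hn (by decide +kernel) (by decide +kernel)

end CfsgLib.OrderBound
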