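import Cfsg.Agent.SmallSimple.OrderBound.SevenTwenty
import Cfsg.Agent.Classical.SmallPSL
import Cfsg.Agent.S4501

/-!
# Orders of non-abelian simple groups up to 1092
-/

set_option autoImplicit false
set_option linter.style.haveILetI false

namespace CfsgLib.OrderBound

open CfsgLib.ThreePrimes

variable {G : Type*} [Group G] [Finite G] [IsSimpleGroup G]

theorem exists_case {n : ℕ} (h0 : 1 ≤ n) (h : n ≤ 1092) : ∃ c, checkCase n c = true := by
  rcases (by omega : n < 101 ∨ (101 ≤ n ∧ n < 201) ∨ (201 ≤ n ∧ n < 301) ∨ (301 ≤ n ∧ n < 401) ∨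
    (401 ≤ n ∧ n < 501) ∨ (501 ≤ n ∧ n < 601) ∨ (601 ≤ n ∧ n < 701) ∨ (701 ≤ n ∧ n < 801) ∨
    (801 ≤ n ∧ n < 901) ∨ (901 ≤ n ∧ n < 1001) ∨ (1001 ≤ n ∧ n < 1093)) with
    h | h | h | h | h | h | h | h | h | h | h
  · exact exists_of_checkFrom rows0_valid h0 (by simpa [rows0] using h)
  · exact exists_of_checkFrom rows1_valid h.1 (by simpa [rows1] using h.2)
  · exact exists_of_checkFrom rows2_valid h.1 (by simpa [rows2] using h.2)
  · exact exists_of_checkFrom rows3_valid h.1 (by simpa [rows3] using h.2)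
  · exact exists_of_checkFrom rows4_valid h.1 (by simpa [rows4] using h.2)
  · exact exists_of_checkFrom rows5_valid h.1 (by simpa [rows5] using h.2)
  · exact exists_of_checkFrom rows6_valid h.1 (by simpa [rows6] using h.2)
  · exact exists_of_checkFrom rows7_valid h.1 (by simpa [rows7] using h.2)
  · exact exists_of_checkFrom rows8_valid h.1 (by simpa [rows8] using h.2)
  · exact exists_of_checkFrom rows9_valid h.1 (by simpa [rows9] using h.2)
  · exact exists_of_checkFrom rows10_valid h.1 (by simpa [rows10] using h.2)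

theorem false_of_cyc (hG : ¬ IsMulCommutative G) {n : ℕ} (hn : Nat.card G = n) {p : ℕ}
    (hp : p.Prime) (hd : p ∣ n) (hd2 : ¬ p * p ∣ n) (hne : n ≠ p)
    (hmin : ∀ k < p, 2 ≤ k → ¬ k ∣ n) : False := by
  haveI := Fact.mk hp
  obtain ⟨m, rfl⟩ := hd
  have hpm : ¬ p ∣ m := fun h => hd2 (mul_dvd_mul_left p h)
  obtain ⟨P⟩ : Nonempty (Sylow p G) := inferInstance
  have hP : Nat.card (P : Subgroup G) = p :=
    (CfsgLib.SmallSimple.card_sylow_eq P (k := 1) (m := m) (by rw [hn, pow_one]) hpm).trans (pow_one p)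
  have hm : 1 < m := by
    rcases Nat.lt_or_ge 1 m with h | h
    · exact h
    · exfalso
      interval_cases m
      · exact hpm (dvd_zero p)
      · exact hne (mul_one p)
  refine not_cyclic_minFac P ?_ (by rw [hP]; exact hp.one_lt) ?_ (isCyclic_of_prime_card hP)
  · refine le_antisymm (Nat.minFac_le_of_dvd hp.two_le (hn ▸ dvd_mul_right p m)) ?_
    by_contra hlt
    push Not at hlt
    have hN1 : Nat.card G ≠ 1 := by
      rw [hn]
      exact (lt_of_lt_of_le hm (Nat.le_mul_of_pos_left m hp.pos)).ne'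
    have hdvd := Nat.minFac_dvd (Nat.card G)
    rw [hn] at hlt hN1 hdvd
    exact hmin _ hlt (Nat.minFac_prime hN1).two_le hdvd
  · rw [hP, hn]
    exact lt_mul_of_one_lt_right hp.pos hm

/-- The order of a non-abelian simple group of order at most 1092. -/
theorem card_of_le (hG : ¬ IsMulCommutative G) (h : Nat.card G ≤ 1092) :
    Nat.card G = 60 ∨ Nat.card G = 168 ∨ Nat.card G = 360 ∨ Nat.card G = 504 ∨ Nat.card G = 660 ∨
      Nat.card G = 1092 := by
  obtain ⟨c, hc⟩ := exists_case Nat.card_pos h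
  obtain ⟨n, hn⟩ : ∃ n, Nat.card G = n := ⟨_, rfl⟩
  rw [hn] at hc ⊢
  cases c with
  | two p a q b =>
    simp only [checkCase, Bool.and_eq_true, beq_iff_eq] at hc
    exact absurd (hn.trans hc.2.symm) (not_two_primes hG (prime_of_primeB hc.1.1) (prime_of_primeB hc.1.2))
  | cyc p =>
    simp only [checkCase, Bool.and_eq_true, beq_iff_eq, bne_iff_ne, List.all_eq_true, List.mem_range,
      Bool.or_eq_true, decide_eq_true_eq] at hc
    obtain ⟨⟨⟨⟨hp, hd⟩, hd2⟩, hne⟩, hmin⟩ := hc
    refine (false_of_cyc hG hn (prime_of_primeB hp) (Nat.dvd_of_mod_eq_zero hd)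
      (fun h => hd2 (Nat.mod_eq_zero_of_dvd h)) hne fun k hk hk2 hdvd => ?_).elim
    rcases hmin k hk with h | h
    · omega
    · exact h (Nat.mod_eq_zero_of_dvd hdvd)
  | four u a w b =>
    simp only [checkCase, Bool.and_eq_true, beq_iff_eq, bne_iff_ne] at hc
    obtain ⟨⟨⟨⟨hu, hw⟩, hu2⟩, hw2⟩, heq⟩ := hc
    exact Or.inl (hn.symm.trans (card_eq_sixty hG (prime_of_primeB hu) (prime_of_primeB hw) hu2 hw2
      (hn.trans heq.symm)))
  | three s a b =>
    simp only [checkCase, Bool.and_eq_true, beq_iff_eq, bne_iff_ne, decide_eq_true_eq] at hc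
    obtain ⟨⟨⟨hs, hs2⟩, ha⟩, heq⟩ := hc
    have hna : ∃ x y : G, x * y ≠ y * x := by
      by_contra h
      exact hG ⟨⟨fun x y => by_contra fun hne => h ⟨x, y, hne⟩⟩⟩
    rcases (Cfsg.Agent.S4501.result hna s 2 a b (prime_of_primeB hs) Nat.prime_two hs2 ha).2
      (hn.trans heq.symm) with ⟨⟨e⟩⟩ | ⟨⟨e⟩⟩
    · refine Or.inl ?_
      rw [← hn, Nat.card_congr e.toEquiv, nat_card_alternatingGroup, Nat.card_fin]
      rfl
    · refine Or.inr (Or.inl ?_)
      haveI : Fact (Nat.Prime 7) := ⟨by norm_num⟩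
      have h7 := CfsgLib.Linear.Small.card_psl_two (F := ZMod 7) (q := 7) (ZMod.card 7)
      rw [← hn, Nat.card_congr e.toEquiv]
      rw [show Nat.gcd 2 (7 - 1) = 2 from rfl, show ((7 : ℕ) ^ 2 - 1) * (7 ^ 2 - 7) = 2016 from rfl,
        show (7 : ℕ) - 1 = 6 from rfl] at h7
      omega
  | search ps =>
    simp only [checkCase, Bool.and_eq_true, decide_eq_true_eq] at hc
    exact (false_of_searchKeep hG hn ps [] hc.1.2 (by simpa using hc.1.1) (by simp) hc.2).elim
  | known =>
    simpa [checkCase, or_assoc] using hc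
  | special =>
    simp only [checkCase, Bool.or_eq_true, beq_iff_eq] at hc
    rcases hc with (h | h) | h
    · exact (false_of_four_twenty hG (hn.trans h)).elim
    · exact (false_of_seven_twenty hG (hn.trans h)).elim
    · exact (false_of_eight_forty hG (hn.trans h)).elim

end CfsgLib.OrderBound
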