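import Cfsg.Agent.SmallSimple.OrderBound.FourTwenty
import Cfsg.Agent.SmallSimple.InvolValues
import Cfsg.Agent.Char.ClassProducts
import Cfsg.Agent.Char.Burnside
import Cfsg.Agent.Blocks.DefectZeroVanish
import Cfsg.Agent.Blocks.Regular

/-!
# No simple group of order 720

A Sylow 5-subgroup is self-centralising with a normaliser of order 20, so an element `s` of order 5
has rational values: exactly five of them are non-zero, each `1` or `-1`. The five involutions of the
normaliser are conjugate, so the class multiplication formula with `s` determines the size of their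
class, which is never integral.
-/

set_option autoImplicit false
set_option linter.style.haveILetI false
set_option linter.unusedSectionVars false

namespace CfsgLib.OrderBound

open Finset CfsgLib.Char CfsgLib.SylowCheck
open scoped commutatorElement

/-- The possible degrees. -/
def degs : List ℕ := [4, 6, 9, 16, 24]

/-- The sign of a degree modulo five. -/
def sgn (d : ℕ) : ℤ := if d % 5 == 1 then 1 else -1

/-- The possible values at an involution. -/
def vals (d : ℕ) : List ℤ :=
  if d % 16 == 0 then [0]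
  else ((List.range (2 * d)).map fun k : ℕ => (k : ℤ) - d).filter fun x => ((d : ℤ) - x) % 4 == 0 && x != -(d : ℤ)

/-- No choice of degrees and values gives a class size. -/
def noClassSize : Bool :=
  degs.all fun a => degs.all fun b => degs.all fun c => degs.all fun d =>
    !(decide (1 + sgn a * a + sgn b * b + sgn c * c + sgn d * d = 0) &&
      decide (1 + a * a + b * b + c * c + d * d ≤ 720)) ||
    (vals a).all fun x => (vals b).all fun y => (vals c).all fun z => (vals d).all fun w =>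
      decide (1 + sgn a * x + sgn b * y + sgn c * z + sgn d * w ≠ 0) ||
      let v := 720 + sgn a * x * x * (720 / a : ℕ) + sgn b * y * y * (720 / b : ℕ) +
        sgn c * z * z * (720 / c : ℕ) + sgn d * w * w * (720 / d : ℕ)
      decide (v ≤ 0) || (List.range 721).all fun K => decide ((K * K * v.toNat) ≠ 2592000)

theorem noClassSize_eq : noClassSize = true := by decide +kernel

theorem sum_map_indicator (ms : Multiset ℂ) :
    (ms.map fun z => if z = 1 then (5 : ℂ) else 0).sum = 5 * (ms.count 1 : ℂ) := by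
  induction ms using Multiset.induction_on with
  | empty => simp
  | cons a t ih =>
    rw [Multiset.map_cons, Multiset.sum_cons, ih, Multiset.count_cons]
    by_cases h : a = 1
    · rw [if_pos h, if_pos h.symm]; push_cast; ring
    · rw [if_neg h, if_neg (Ne.symm h)]; push_cast; ring

theorem mem_degs {d : ℕ} (h1 : d ∣ 720) (h2 : d * d ≤ 719) (h3 : d % 5 = 1 ∨ d % 5 = 4)
    (h4 : 2 ≤ d) : d ∈ degs := by
  have h : d < 27 := by nlinarith
  interval_cases d <;> simp_all [degs]

variable {G : Type*} [Group G] [Finite G] [IsSimpleGroup G]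

set_option maxHeartbeats 1000000 in
theorem false_of_seven_twenty (hG : ¬ IsMulCommutative G) (hn : Nat.card G = 720) : False := by
  classical
  haveI : Fact (Nat.Prime 5) := ⟨by norm_num⟩
  letI : Fintype G := Fintype.ofFinite G
  obtain ⟨d, hd, hr, hd5⟩ := exists_real_keep hG hn (e := (5, some (2, 4, 3, 2))) (by decide +kernel)
  rw [show (opts (divisorList 720) 720 5).filter (keepB (5, some (2, 4, 3, 2))) = [(5, 36, 1)] by
    decide +kernel, List.mem_singleton] at hd
  subst hd
  obtain ⟨P⟩ : Nonempty (Sylow 5 G) := inferInstance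
  obtain ⟨hP, hC⟩ := hr.2.2.2 P
  change Nat.card (P : Subgroup G) = 5 at hP
  change Nat.card _ = 5 * 1 at hC
  set C := Subgroup.centralizer ((P : Subgroup G) : Set G) with hCdef
  set N := Subgroup.normalizer ((P : Subgroup G) : Set G) with hNdef
  have hN : Nat.card N = 20 := by
    have h := CfsgLib.SmallSimple.card_sylow_mul P
    have h36 : Nat.card (Sylow 5 G) = 36 := hr.2.2.1
    rw [h36, hn] at h
    rw [hNdef]; omega
  haveI : IsCyclic (P : Subgroup G) := isCyclic_of_prime_card hP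
  obtain ⟨⟨s, hsP⟩, hs⟩ := IsCyclic.exists_ofOrder_eq_natCard (α := (P : Subgroup G))
  rw [hP, Subgroup.orderOf_mk] at hs
  have hPs : (P : Subgroup G) = Subgroup.zpowers s :=
    (Subgroup.eq_of_le_of_card_ge (Subgroup.zpowers_le.2 hsP) (by rw [hP, Nat.card_zpowers, hs])).symm
  have hCs : Subgroup.centralizer ({s} : Set G) = C := by
    rw [hCdef, hPs, Subgroup.zpowers_eq_closure, Subgroup.centralizer_closure]
  have hC5 : Nat.card C = 5 := hC.trans (mul_one 5)
  have hPC : (P : Subgroup G) ≤ C := fun a ha =>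
    Subgroup.mem_centralizer_iff.2 fun b hb => setLike_mul_comm (S := Subgroup G) hb ha
  have hCP : C = (P : Subgroup G) :=
    (Subgroup.eq_of_le_of_card_ge hPC (by rw [hC5, hP])).symm
  have hs1 : s ≠ 1 := fun h => by rw [h, orderOf_one] at hs; omega
  -- all generators of the Sylow subgroup are conjugate
  have hfus : ∀ w ∈ (P : Subgroup G), w ≠ 1 → ∃ n ∈ N, n * s * n⁻¹ = w := by
    haveI := Fintype.ofFinite N
    let T : Finset G := univ.filter fun w => w ∈ (P : Subgroup G) ∧ w ≠ 1
    have hT : T.card = 4 := by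
      have h1 : (univ.filter fun w : G => w ∈ (P : Subgroup G)).card = 5 := by
        rw [← Fintype.card_subtype, ← Nat.card_eq_fintype_card, hP]
      rw [show T = (univ.filter fun w : G => w ∈ (P : Subgroup G)).erase 1 by
        ext w; simp only [T, mem_filter, mem_erase, mem_univ, true_and]; tauto,
        card_erase_of_mem (by simp [one_mem]), h1]
    let I : Finset G := (univ : Finset N).image (fun n : N => (n : G) * s * (n : G)⁻¹)
    have hIT : I ⊆ T := by
      intro w hw
      obtain ⟨n, -, rfl⟩ := mem_image.1 hw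
      exact mem_filter.2 ⟨mem_univ _, (Subgroup.mem_normalizer_iff.1 n.2 s).1 hsP,
        fun h => hs1 (conj_eq_one_iff.1 h)⟩
    have hle : (univ : Finset N).card ≤ 5 * I.card := by
      refine card_le_mul_card_image (f := fun n : N => (n : G) * s * (n : G)⁻¹) _ 5 fun w hw => ?_
      obtain ⟨m, -, rfl⟩ := mem_image.1 hw
      haveI := Fintype.ofFinite C
      rw [← hC5, Nat.card_eq_fintype_card, ← card_univ]
      refine card_le_card_of_injOn (fun n => if h : (m : G)⁻¹ * n ∈ C then (⟨_, h⟩ : C) else 1)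
        (fun _ _ => mem_univ _) ?_
      intro a ha b hb hab
      simp only [coe_filter, mem_univ, true_and, Set.mem_setOf_eq] at ha hb
      have key : ∀ n : N, (n : G) * s * (n : G)⁻¹ = (m : G) * s * (m : G)⁻¹ → (m : G)⁻¹ * n ∈ C := by
        intro n h
        rw [← hCs, Subgroup.mem_centralizer_singleton_iff]
        calc (m : G)⁻¹ * n * s = (m : G)⁻¹ * ((n : G) * s * (n : G)⁻¹) * n := by group
          _ = s * ((m : G)⁻¹ * n) := by rw [h]; group
      simp only [dif_pos (key a ha), dif_pos (key b hb), Subtype.mk.injEq, mul_right_inj] at hab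
      exact Subtype.ext hab
    rw [card_univ, ← Nat.card_eq_fintype_card, hN] at hle
    have hI : I = T := eq_of_subset_of_card_le hIT (by omega)
    intro w hw hw1
    obtain ⟨n, -, hn'⟩ := mem_image.1 (hI.ge (mem_filter.2 ⟨mem_univ _, hw, hw1⟩))
    exact ⟨(n : G), n.2, hn'⟩
  obtain ⟨h, hhN, hh⟩ := hfus s⁻¹ (inv_mem hsP) (inv_ne_one.2 hs1)
  have hh2 : h * h ∈ C := by
    rw [← hCs, Subgroup.mem_centralizer_singleton_iff]
    have h3 : h * h * s * (h * h)⁻¹ = s :=
      calc h * h * s * (h * h)⁻¹ = h * (h * s * h⁻¹) * h⁻¹ := by group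
        _ = (h * s * h⁻¹)⁻¹ := by rw [hh, ← conj_inv, hh]
        _ = s := by rw [hh, inv_inv]
    exact mul_inv_eq_iff_eq_mul.1 h3
  -- an inverting involution
  set t := h ^ 5 with htdef
  have htt : t * t = 1 := by
    rw [htdef, ← pow_add, show 5 + 5 = 2 * 5 by norm_num, pow_mul, sq]
    have := pow_card_eq_one' (x := (⟨h * h, hh2⟩ : C))
    rw [hC5] at this
    exact congrArg Subtype.val this
  have hts : t * s * t⁻¹ = s⁻¹ := by
    have h4 : (h * h) ^ 2 * s * ((h * h) ^ 2)⁻¹ = s := by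
      have : (h * h) ^ 2 ∈ Subgroup.centralizer ({s} : Set G) := hCs ▸ pow_mem hh2 2
      rw [Subgroup.mem_centralizer_singleton_iff.1 this, mul_inv_cancel_right]
    have h5 : t = h * (h * h) ^ 2 := by rw [htdef]; simp only [pow_succ, pow_zero, one_mul, mul_assoc]
    calc t * s * t⁻¹ = h * ((h * h) ^ 2 * s * ((h * h) ^ 2)⁻¹) * h⁻¹ := by rw [h5]; group
      _ = s⁻¹ := by rw [h4, hh]
  have ht1 : t ≠ 1 := fun h0 => by
    rw [h0, one_mul, inv_one, mul_one] at hts
    have : s ^ 2 = 1 := by rw [sq]; nth_rewrite 2 [hts]; exact mul_inv_cancel s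
    have := hs ▸ orderOf_dvd_of_pow_eq_one this
    omega
  have hts' : ∀ j : ℕ, t * s ^ j = (s ^ j)⁻¹ * t := fun j => by
    have := conj_pow (a := t) (b := s) (i := j)
    rw [hts, inv_pow] at this
    rw [this]; group
  have hord2 : orderOf t = 2 := orderOf_eq_prime (by rw [sq, htt]) ht1
  have hnts : ¬ IsConj t s := fun hc => by
    obtain ⟨g, hg⟩ := isConj_iff.1 hc
    have := (MulAut.conj g).orderOf_eq t
    rw [MulAut.conj_apply, hg, hs, hord2] at this
    omega
  have hn1s : ¬ IsConj 1 s := fun hc => hs1 (isConj_one_right.1 hc)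
  -- the pairs of conjugates of the involution with product `s`
  have hinv : ∀ x : G, x * x = 1 → x⁻¹ = x := fun x hx => inv_eq_of_mul_eq_one_right hx
  have hinvol : ∀ x, IsConj t x → x * x = 1 := fun x hx => by
    obtain ⟨g, rfl⟩ := isConj_iff.1 hx
    calc g * t * g⁻¹ * (g * t * g⁻¹) = g * (t * t) * g⁻¹ := by group
      _ = 1 := by rw [htt, mul_one, mul_inv_cancel]
  have hconj : ∀ c ∈ C, IsConj t (c * t) := by
    intro c hc
    rw [hCP, hPs, mem_zpowers_iff_mem_range_orderOf, hs, mem_image] at hc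
    obtain ⟨i, -, rfl⟩ := hc
    refine isConj_iff.2 ⟨s ^ (3 * i), ?_⟩
    have h5 : s ^ (5 * i) = 1 := by rw [pow_mul, ← hs, pow_orderOf_eq_one, one_pow]
    have h6 : t * (s ^ (3 * i))⁻¹ = s ^ (3 * i) * t := by
      calc t * (s ^ (3 * i))⁻¹ = s ^ (3 * i) * ((s ^ (3 * i))⁻¹ * t) * (s ^ (3 * i))⁻¹ := by group
        _ = s ^ (3 * i) * (t * s ^ (3 * i)) * (s ^ (3 * i))⁻¹ := by rw [hts']
        _ = s ^ (3 * i) * t := by group
    rw [mul_assoc, h6, ← mul_assoc, ← pow_add, show 3 * i + 3 * i = 5 * i + i by ring, pow_add, h5,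
      one_mul]
  have hpairs : Nat.card {q : G × G // IsConj t q.1 ∧ IsConj t q.2 ∧ q.1 * q.2 = s} = 5 := by
    rw [← hC5]
    refine (Nat.card_eq_of_bijective (fun c : C => (⟨((c : G) * t, ((c : G) * t) * s), hconj c c.2, ?_,
      by rw [← mul_assoc, hinvol _ (hconj c c.2), one_mul]⟩ :
        {q : G × G // IsConj t q.1 ∧ IsConj t q.2 ∧ q.1 * q.2 = s})) ⟨?_, ?_⟩).symm
    · have h1 : (c : G) * t * s = ((c : G) * s⁻¹) * t := by
        have := hts' 1
        rw [pow_one] at this
        rw [mul_assoc, this, ← mul_assoc]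
      rw [h1]
      exact hconj _ (mul_mem c.2 (inv_mem (hPC hsP)))
    · intro a b hab
      simp only [Subtype.mk.injEq, Prod.mk.injEq, mul_left_inj] at hab
      exact Subtype.ext hab.1
    · rintro ⟨⟨u, v⟩, hu, hv, huv⟩
      have hu2 := hinvol u hu
      have hv2 := hinvol v hv
      simp only at hu hv huv hu2 hv2
      have hmem : u * t ∈ C := by
        rw [← hCs, Subgroup.mem_centralizer_singleton_iff]
        have h1 : u * s⁻¹ * u⁻¹ = s := by
          rw [← huv, mul_inv_rev, hinv u hu2, hinv v hv2, mul_assoc, mul_assoc, hu2, mul_one]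
        calc u * t * s = u * (t * s * t⁻¹) * u⁻¹ * (u * t) := by group
          _ = s * (u * t) := by rw [hts, h1]
      refine ⟨⟨u * t, hmem⟩, Subtype.ext (Prod.ext ?_ ?_)⟩
      · simp only; rw [mul_assoc, htt, mul_one]
      · simp only; rw [mul_assoc u t t, htt, mul_one, ← huv, ← mul_assoc, hu2, one_mul]
  -- the values at `1`, `s` and `t`
  have hperf : commutator G = ⊤ := by
    rcases IsSimpleGroup.eq_bot_or_eq_top_of_normal (commutator G) inferInstance with h | h
    · exfalso
      refine hG ⟨⟨fun a b => ?_⟩⟩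
      have h2 : ⁅a, b⁆ ∈ commutator G := by
        rw [commutator_def]
        exact Subgroup.commutator_mem_commutator (Subgroup.mem_top a) (Subgroup.mem_top b)
      rwa [h, Subgroup.mem_bot, commutatorElement_eq_one_iff_mul_comm] at h2
    · exact h
  have hvals : ∀ χ : G → ℂ, ∃ (d : ℕ) (a x : ℤ), χ ∈ irrFinset G →
      χ 1 = d ∧ χ s = a ∧ χ t = x ∧ 0 < d ∧ (5 : ℤ) ∣ a - d ∧ 4 ∣ (d : ℤ) - x ∧
        -(d : ℤ) ≤ x ∧ x ≤ d := by
    intro χ
    by_cases hm : χ ∈ irrFinset G
    swap
    · exact ⟨0, 0, 0, fun h => absurd h hm⟩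
    have hχ := mem_irrFinset.1 hm
    obtain ⟨d, hd0, hd⟩ := IsIrrCharacter.exists_degree hχ
    obtain ⟨x, hx, hx4, hxl, hxu⟩ :=
      CfsgLib.InvolValues.invol_mod_four hperf (IsIrrCharacter.isCharacter hχ) htt hd
    obtain ⟨ms, -, hms, hk⟩ := IsCharacter.exists_roots (IsIrrCharacter.isCharacter hχ) s
    rw [hs] at hms
    have hpow : ∀ k : ℕ, ¬ 5 ∣ k → χ (s ^ k) = χ s := fun k hk5 => by
      obtain ⟨n, -, hn'⟩ := hfus (s ^ k) (pow_mem hsP k) fun h0 =>
        hk5 (hs ▸ orderOf_dvd_of_pow_eq_one h0)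
      exact (IsClassFunction.apply_eq_of_isConj (IsIrrCharacter.isClassFunction hχ)
        (isConj_iff.2 ⟨n, hn'⟩)).symm
    have hsum : (χ (s ^ 0) + χ (s ^ 1) + χ (s ^ 2) + χ (s ^ 3) + χ (s ^ 4)) =
        5 * (ms.count 1 : ℂ) := by
      simp only [hk, ← Multiset.sum_map_add]
      rw [Multiset.map_congr rfl (fun z hz => show z ^ 0 + z ^ 1 + z ^ 2 + z ^ 3 + z ^ 4 =
        if z = 1 then (5 : ℂ) else 0 from ?_), sum_map_indicator]
      · split_ifs with h1
        · rw [h1]; norm_num
        · have h5 := hms z hz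
          have h2 : (z - 1) * (z ^ 0 + z ^ 1 + z ^ 2 + z ^ 3 + z ^ 4) = 0 := by linear_combination h5
          exact (mul_eq_zero.1 h2).resolve_left (sub_ne_zero.2 h1)
    rw [pow_zero, hd, hpow 1 (by norm_num), hpow 2 (by norm_num), hpow 3 (by norm_num),
      hpow 4 (by norm_num)] at hsum
    set m := ms.count (1 : ℂ)
    obtain ⟨a, ha, haq⟩ := exists_int_of_isIntegral_rat ((5 * m - d : ℚ) / 4)
      (IsCharacter.isIntegral (IsIrrCharacter.isCharacter hχ) s) (by push_cast; linear_combination (1 / 4 : ℂ) * hsum)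
    refine ⟨d, a, x, fun _ => ⟨hd, ha, hx, hd0, ?_, hx4, hxl, hxu⟩⟩
    have h4 : (4 : ℤ) * a = 5 * m - d := by
      have : (4 : ℚ) * a = 5 * m - d := by rw [← haq]; ring
      exact_mod_cast this
    exact ⟨a - m, by linarith⟩
  choose D A X hv using hvals
  set triv : G → ℂ := fun _ => 1 with htriv
  have htm : triv ∈ irrFinset G := mem_irrFinset.mpr isIrrCharacter_one
  obtain ⟨hD1, hA1, hX1⟩ : D triv = 1 ∧ A triv = 1 ∧ X triv = 1 := by
    obtain ⟨h1, h2, h3, -⟩ := hv triv htm
    simp only [htriv] at h1 h2 h3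
    exact ⟨by exact_mod_cast h1.symm, by exact_mod_cast h2.symm, by exact_mod_cast h3.symm⟩
  have hCcard : Nat.card (Subgroup.centralizer ({s} : Set G)) = 5 := by rw [hCs, hC5]
  have hSa : ∑ χ ∈ irrFinset G, A χ * A χ = 5 := by
    have h := sum_irr_mul_conj s s
    rw [if_pos (IsConj.refl s), hCcard, sum_congr rfl fun χ hχ => by rw [(hv χ hχ).2.1, map_intCast]] at h
    exact_mod_cast h
  have hSd : ∑ χ ∈ irrFinset G, (D χ : ℤ) * A χ = 0 := by
    have h := sum_irr_mul_conj 1 s
    rw [if_neg hn1s, sum_congr rfl fun χ hχ => by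
      rw [(hv χ hχ).1, (hv χ hχ).2.1, map_intCast]] at h
    exact_mod_cast h
  have hSx : ∑ χ ∈ irrFinset G, X χ * A χ = 0 := by
    have h := sum_irr_mul_conj t s
    rw [if_neg hnts, sum_congr rfl fun χ hχ => by
      rw [(hv χ hχ).2.2.1, (hv χ hχ).2.1, map_intCast]] at h
    exact_mod_cast h
  have hSq : ∑ χ ∈ irrFinset G, D χ ^ 2 = 720 := by
    have h := sum_degree_sq (G := G)
    rw [hn, sum_congr rfl fun χ hχ => by rw [(hv χ hχ).1]] at h
    exact_mod_cast h
  -- the four nonprincipal characters not vanishing at `s`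
  set I := (irrFinset G).erase triv with hI
  set Q := I.filter fun χ => A χ ≠ 0 with hQ
  have hmemI : ∀ χ ∈ I, χ ∈ irrFinset G := fun χ hχ => mem_of_mem_erase hχ
  have hsplit : ∀ (F : (G → ℂ) → ℤ), (∀ χ ∈ I, A χ = 0 → F χ = 0) →
      ∑ χ ∈ irrFinset G, F χ = F triv + ∑ χ ∈ Q, F χ := by
    intro F hF
    rw [← add_sum_erase _ _ htm]
    congr 1
    exact (sum_subset (filter_subset _ _) fun χ hχ hn => hF χ hχ
      (by_contra fun h => hn (mem_filter.2 ⟨hχ, h⟩))).symm
  rw [hsplit _ (fun χ _ h => by rw [h, mul_zero]), hA1] at hSa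
  rw [hsplit _ (fun χ _ h => by rw [h, mul_zero]), hA1, hD1] at hSd
  rw [hsplit _ (fun χ _ h => by rw [h, mul_zero]), hA1, hX1] at hSx
  have hA : ∀ χ ∈ Q, A χ = 1 ∨ A χ = -1 := by
    intro χ hχ
    have h1 := single_le_sum (fun ψ _ => mul_self_nonneg (A ψ)) hχ
    have h0 : A χ ≠ 0 := (mem_filter.1 hχ).2
    by_contra hne
    have h2 : A χ = 2 ∨ A χ = -2 := by
      have : -2 ≤ A χ ∧ A χ ≤ 2 := ⟨by nlinarith, by nlinarith⟩
      omega
    have hrest : ∀ ψ ∈ Q.erase χ, A ψ = 0 := by
      rw [← add_sum_erase _ _ hχ] at hSa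
      have h3 : ∑ ψ ∈ Q.erase χ, A ψ * A ψ = 0 := by rcases h2 with h | h <;> rw [h] at hSa <;> linarith
      intro ψ hψ
      exact mul_self_eq_zero.1 ((sum_eq_zero_iff_of_nonneg fun x _ => mul_self_nonneg (A x)).1 h3 ψ hψ)
    rw [← add_sum_erase _ _ hχ, sum_eq_zero fun ψ hψ => by rw [hrest ψ hψ, mul_zero]] at hSd
    rcases h2 with h | h <;> rw [h] at hSd <;> push_cast at hSd <;> omega
  have hcard : Q.card = 4 := by
    rw [sum_congr rfl fun χ hχ => show A χ * A χ = 1 by rcases hA χ hχ with h | h <;> rw [h] <;> rfl,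
      sum_const, nsmul_one] at hSa
    have : (Q.card : ℤ) = 4 := by linarith
    exact_mod_cast this
  have hfacts : ∀ χ ∈ Q, D χ ∈ degs ∧ A χ = sgn (D χ) ∧ X χ ∈ vals (D χ) := by
    intro χ hχ
    have hI' := (mem_filter.1 hχ).1
    have hm := hmemI χ hI'
    obtain ⟨h1, -, h3, hd0, hc5, hc4, hxl, hxu⟩ := hv χ hm
    have hne : χ ≠ triv := ne_of_mem_erase hI'
    let χ' : Cfsg.IrrCharacter G := ⟨χ, mem_irrFinset.1 hm⟩
    have hdeg : Cfsg.charDegree (χ' : G → ℂ) = D χ := by
      show Cfsg.charDegree χ = D χ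
      rw [Cfsg.charDegree, h1, Complex.natCast_re, Nat.floor_natCast]
    have hdiv : D χ ∣ 720 := hn ▸ hdeg ▸ CfsgLib.Block.charDegree_dvd_card χ'
    have hsq : D χ * D χ ≤ 719 := by
      have h := single_le_sum (f := fun ψ => D ψ ^ 2) (fun _ _ => Nat.zero_le _) (mem_erase.2 ⟨hne, hm⟩)
      have h' := (add_sum_erase (irrFinset G) (fun ψ => D ψ ^ 2) htm).trans hSq
      simp only [hD1, one_pow] at h h'
      rw [sq] at h
      omega
    obtain ⟨n, ρ, hirr, hρ⟩ := mem_irrFinset.1 hm
    haveI := hirr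
    have hnd : n = D χ := by
      have : ρ.character 1 = (D χ : ℂ) := by rw [hρ]; exact h1
      rw [ρ.char_one, Module.finrank_fin_fun] at this
      exact_mod_cast this
    have hnorm : ∀ g : G, g ≠ 1 → ‖χ g‖ ≠ (D χ : ℝ) := fun g hg h => hne (by
      rw [htriv, ← hρ]
      refine eq_one_of_norm_eq_of_simple (fun hc => hG ⟨⟨hc⟩⟩) ρ hg ?_
      rw [hρ, h, Module.finrank_fin_fun, hnd])
    have h5 : D χ % 5 = 1 ∨ D χ % 5 = 4 := by rcases hA χ hχ with h | h <;> rw [h] at hc5 <;> omega
    have h2 : 2 ≤ D χ := by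
      by_contra hlt
      apply hnorm s hs1
      rw [(hv χ hm).2.1, show D χ = 1 by omega]
      rcases hA χ hχ with h | h <;> simp [h]
    refine ⟨mem_degs hdiv hsq h5 h2, ?_, ?_⟩
    · unfold sgn
      rcases hA χ hχ with h | h <;> rw [h] at hc5 ⊢
      · rw [if_pos (by simp only [beq_iff_eq]; omega)]
      · rw [if_neg (by simp only [beq_iff_eq]; omega)]
    · unfold vals
      split_ifs with h16
      · rw [List.mem_singleton]
        have hz := CfsgLib.Block.eq_zero_of_defectZero Nat.prime_two χ' (g := t) ?_ (by rw [hord2])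
        · have hz' : χ t = 0 := hz
          rw [h3] at hz'
          exact_mod_cast hz'
        · rw [hdeg, hn, show (720 : ℕ) = 2 ^ 4 * 45 by norm_num,
            Nat.factorization_mul (by norm_num) (by norm_num), Nat.prime_two.factorization_pow]
          simp only [Finsupp.add_apply, Finsupp.single_eq_same]
          rw [Nat.factorization_eq_zero_of_not_dvd (by norm_num : ¬ 2 ∣ 45)]
          simp only [beq_iff_eq] at h16
          exact Nat.dvd_of_mod_eq_zero h16
      · have hx1 : X χ ≠ D χ ∧ X χ ≠ -(D χ : ℤ) := by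
          constructor <;> intro h <;> apply hnorm t ht1 <;> rw [h3, h] <;> simp
        simp only [List.mem_filter, List.mem_map, List.mem_range, Bool.and_eq_true, beq_iff_eq, bne_iff_ne]
        exact ⟨⟨(X χ + D χ).toNat, by omega, by omega⟩, by omega, hx1.2⟩
  -- the class multiplication formula
  have hK : ∑ χ ∈ irrFinset G, X χ * X χ * A χ * (720 / D χ : ℕ) *
      ((Nat.card {x : G // IsConj t x} : ℤ) ^ 2) = 2592000 := by
    have h := card_class_products t t s
    rw [hpairs, hn] at h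
    set K := Nat.card {x : G // IsConj t x}
    have h' : ∑ χ ∈ irrFinset G, (((X χ * X χ * A χ * (720 / D χ : ℕ) : ℤ)) : ℂ) =
        720 * ∑ χ ∈ irrFinset G, χ t * χ t * (starRingEnd ℂ) (χ s) / χ 1 := by
      rw [mul_sum]
      refine sum_congr rfl fun χ hχ => ?_
      obtain ⟨h1, h2, h3, hd0, -⟩ := hv χ hχ
      let χ' : Cfsg.IrrCharacter G := ⟨χ, mem_irrFinset.1 hχ⟩
      have hdiv : D χ ∣ 720 := by
        have hdeg : Cfsg.charDegree (χ' : G → ℂ) = D χ := by
          show Cfsg.charDegree χ = D χ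
          rw [Cfsg.charDegree, h1, Complex.natCast_re, Nat.floor_natCast]
        exact hn ▸ hdeg ▸ CfsgLib.Block.charDegree_dvd_card χ'
      rw [h1, h2, h3, map_intCast, Int.cast_mul, Int.cast_natCast,
        Nat.cast_div hdiv (Nat.cast_ne_zero.2 hd0.ne')]
      push_cast
      ring
    rw [← sum_mul]
    apply (Int.cast_injective (α := ℂ))
    push_cast at h' ⊢
    rw [h']
    linear_combination (-518400 : ℂ) * h
  rw [← sum_mul, hsplit _ (fun χ _ h => by rw [h, mul_zero, zero_mul]), hA1, hX1, hD1] at hK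
  obtain ⟨K, hKK, hKle⟩ : ∃ K : ℕ, Nat.card {x : G // IsConj t x} = K ∧ K ≤ 720 :=
    ⟨_, rfl, hn ▸ Nat.card_le_card_of_injective _ Subtype.val_injective⟩
  rw [hKK] at hK
  obtain ⟨χa, χb, χc, χd, hab, hac, had, hbc, hbd, hcd, hQe⟩ := card_eq_four.1 hcard
  have hsum : ∀ F : (G → ℂ) → ℤ, ∑ χ ∈ Q, F χ = F χa + F χb + F χc + F χd := by
    intro F
    rw [hQe, sum_insert (by simp [hab, hac, had]), sum_insert (by simp [hbc, hbd]), sum_pair hcd]
    ring
  have hin : χa ∈ Q ∧ χb ∈ Q ∧ χc ∈ Q ∧ χd ∈ Q := by simp [hQe]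
  obtain ⟨ha, hsa, hxa⟩ := hfacts χa hin.1
  obtain ⟨hb, hsb, hxb⟩ := hfacts χb hin.2.1
  obtain ⟨hc, hsc, hxc⟩ := hfacts χc hin.2.2.1
  obtain ⟨hd, hsd, hxd⟩ := hfacts χd hin.2.2.2
  rw [hsum, hsa, hsb, hsc, hsd] at hSd hSx hK
  have hsq4 : 1 + D χa * D χa + D χb * D χb + D χc * D χc + D χd * D χd ≤ 720 := by
    have h1 : ∑ χ ∈ Q, D χ ^ 2 ≤ ∑ χ ∈ I, D χ ^ 2 := sum_le_sum_of_subset (filter_subset _ _)
    rw [← add_sum_erase _ _ htm, hD1] at hSq
    rw [hQe, sum_insert (by simp [hab, hac, had]), sum_insert (by simp [hbc, hbd]), sum_pair hcd] at h1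
    simp only [sq] at h1 hSq
    rw [← hI] at hSq
    omega
  have h := noClassSize_eq
  simp only [noClassSize, List.all_eq_true] at h
  have h := h _ ha _ hb _ hc _ hd
  rw [Bool.or_eq_true] at h
  rcases h with h | h
  · simp only [Bool.not_eq_true', Bool.and_eq_false_iff, decide_eq_false_iff_not] at h
    rcases h with h | h
    · apply h
      push_cast at hSd ⊢
      linarith
    · exact h hsq4
  simp only [List.all_eq_true] at h
  have h := h _ hxa _ hxb _ hxc _ hxd
  simp only [Bool.or_eq_true, decide_eq_true_eq, List.all_eq_true, List.mem_range] at h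
  set v : ℤ := 720 + sgn (D χa) * X χa * X χa * (720 / D χa : ℕ) + sgn (D χb) * X χb * X χb * (720 / D χb : ℕ) +
    sgn (D χc) * X χc * X χc * (720 / D χc : ℕ) + sgn (D χd) * X χd * X χd * (720 / D χd : ℕ) with hvdef
  have hv' : v * (K : ℤ) ^ 2 = 2592000 := by
    rw [hvdef]
    push_cast at hK ⊢
    linear_combination hK
  rcases h with h | h
  · exact h (by linarith)
  rcases h with h | h
  · nlinarith [sq_nonneg (K : ℤ)]
  · refine h K (by omega) ?_
    have h0 : 0 ≤ v := by nlinarith [sq_nonneg (K : ℤ)]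
    zify
    rw [Int.toNat_of_nonneg h0]
    linear_combination hv'

end CfsgLib.OrderBound
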