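import Cfsg.Agent.SmallSimple.SylowCheck

/-!
# Certificates that a number is not the order of a non-abelian simple group

A certificate names the criterion to apply: at most two primes, a cyclic Sylow subgroup for the
smallest prime, the shapes `4 u ^ a w ^ b` and `3 s ^ a 2 ^ b`, or the Sylow data search, in which
the centraliser data are restricted when the order has three primes.
-/

set_option autoImplicit false

namespace CfsgLib.OrderBound

open CfsgLib.SylowCheck

/-- The criterion to apply to an order. -/
inductive Case : Type
  | two (p a q b : ℕ)
  | cyc (p : ℕ)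
  | four (u a w b : ℕ)
  | three (s a b : ℕ)
  | search (ps : List (ℕ × Option (ℕ × ℕ × ℕ × ℕ)))
  | known
  | special

/-- Primality by trial division. -/
def primeB (p : ℕ) : Bool :=
  decide (2 ≤ p) && (List.range p).all fun k => decide (k < 2) || p % k != 0

theorem prime_of_primeB {p : ℕ} (h : primeB p = true) : p.Prime := by
  simp only [primeB, Bool.and_eq_true, decide_eq_true_eq, List.all_eq_true, List.mem_range,
    Bool.or_eq_true, bne_iff_ne] at h
  refine Nat.prime_def_lt'.2 ⟨h.1, fun k hk2 hkp hdvd => ?_⟩
  rcases h.2 k hkp with h' | h'
  · omega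
  · exact h' (Nat.mod_eq_zero_of_dvd hdvd)

/-- An entry of the search: the prime occurs once, and with three primes the others are recorded. -/
def entryB (n : ℕ) (e : ℕ × Option (ℕ × ℕ × ℕ × ℕ)) : Bool :=
  primeB e.1 && n % e.1 == 0 && n % (e.1 * e.1) != 0 &&
    match e.2 with
    | none => true
    | some (u, a, w, b) =>
      primeB u && primeB w && u != w && u != e.1 && w != e.1 && u ^ a * w ^ b * e.1 == n

/-- Whether a datum is compatible with an entry: a self-centralising Sylow subgroup. -/
def keepB (e : ℕ × Option (ℕ × ℕ × ℕ × ℕ)) (o : Datum) : Bool :=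
  e.2.isNone || o.2.2 == 1

/-- The search with restricted data. -/
def searchKeep (D : List ℕ) (d : ℕ) : List (ℕ × Option (ℕ × ℕ × ℕ × ℕ)) → List Datum → Bool
  | [], acc => counted d acc
  | e :: es, acc => ((opts D d e.1).filter (keepB e)).all fun o =>
      acc.any (fun u => !(compat D o u && compat D u o)) || searchKeep D d es (o :: acc)

/-- The divisors of a number. -/
def divisorList (n : ℕ) : List ℕ := (List.range (n + 1)).filter fun k => k != 0 && n % k == 0

/-- A certificate for the order `n`. -/
def checkCase (n : ℕ) : Case → Bool
  | .two p a q b => primeB p && primeB q && p ^ a * q ^ b == n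
  | .cyc p => primeB p && n % p == 0 && n % (p * p) != 0 && n != p &&
      (List.range p).all fun k => decide (k < 2) || n % k != 0
  | .four u a w b => primeB u && primeB w && u != 2 && w != 2 && 4 * (u ^ a * w ^ b) == n
  | .three s a b => primeB s && s != 2 && decide (a ≤ 2) && 3 * s ^ a * 2 ^ b == n
  | .search ps => (ps.map Prod.fst).Nodup && ps.all (entryB n) &&
      searchKeep (divisorList n) n ps []
  | .known => n == 60 || n == 168 || n == 360 || n == 504 || n == 660 || n == 1092
  | .special => n == 420 || n == 720 || n == 840

/-- A list of certificates for consecutive orders. -/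
def checkFrom : ℕ → List Case → Bool
  | _, [] => true
  | n, c :: cs => checkCase n c && checkFrom (n + 1) cs

theorem exists_of_checkFrom : ∀ {l : List Case} {s n : ℕ}, checkFrom s l = true → s ≤ n →
    n < s + l.length → ∃ c, checkCase n c = true
  | [], s, n, _, h1, h2 => by simp at h2; omega
  | c :: cs, s, n, h, h1, h2 => by
    simp only [checkFrom, Bool.and_eq_true] at h
    rcases Nat.lt_or_ge s n with hlt | hge
    · exact exists_of_checkFrom h.2 hlt (by simp at h2; omega)
    · exact ⟨c, (show n = s by omega) ▸ h.1⟩

end CfsgLib.OrderBound
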