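import Cfsg.Agent.SmallSimple.OrderBound.Check

/-!
# A certificate for every order from 1 to 1092
-/

set_option autoImplicit false

namespace CfsgLib.OrderBound

/-- Orders 1 to 100. -/
def rows0 : List Case :=
  [.two 2 0 3 0,
   .two 2 1 3 0,
   .two 3 1 2 0,
   .two 2 2 3 0,
   .two 5 1 2 0,
   .two 2 1 3 1,
   .two 7 1 2 0,
   .two 2 3 3 0,
   .two 3 2 2 0,
   .two 2 1 5 1,
   .two 11 1 2 0,
   .two 2 2 3 1,
   .two 13 1 2 0,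
   .two 2 1 7 1,
   .two 3 1 5 1,
   .two 2 4 3 0,
   .two 17 1 2 0,
   .two 2 1 3 2,
   .two 19 1 2 0,
   .two 2 2 5 1,
   .two 3 1 7 1,
   .two 2 1 11 1,
   .two 23 1 2 0,
   .two 2 3 3 1,
   .two 5 2 2 0,
   .two 2 1 13 1,
   .two 3 3 2 0,
   .two 2 2 7 1,
   .two 29 1 2 0,
   .cyc 2,
   .two 31 1 2 0,
   .two 2 5 3 0,
   .two 3 1 11 1,
   .two 2 1 17 1,
   .two 5 1 7 1,
   .two 2 2 3 2,
   .two 37 1 2 0,
   .two 2 1 19 1,
   .two 3 1 13 1,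
   .two 2 3 5 1,
   .two 41 1 2 0,
   .cyc 2,
   .two 43 1 2 0,
   .two 2 2 11 1,
   .two 3 2 5 1,
   .two 2 1 23 1,
   .two 47 1 2 0,
   .two 2 4 3 1,
   .two 7 2 2 0,
   .two 2 1 5 2,
   .two 3 1 17 1,
   .two 2 2 13 1,
   .two 53 1 2 0,
   .two 2 1 3 3,
   .two 5 1 11 1,
   .two 2 3 7 1,
   .two 3 1 19 1,
   .two 2 1 29 1,
   .two 59 1 2 0,
   .known,
   .two 61 1 2 0,
   .two 2 1 31 1,
   .two 3 2 7 1,
   .two 2 6 3 0,
   .two 5 1 13 1,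
   .cyc 2,
   .two 67 1 2 0,
   .two 2 2 17 1,
   .two 3 1 23 1,
   .cyc 2,
   .two 71 1 2 0,
   .two 2 3 3 2,
   .two 73 1 2 0,
   .two 2 1 37 1,
   .two 3 1 5 2,
   .two 2 2 19 1,
   .two 7 1 11 1,
   .cyc 2,
   .two 79 1 2 0,
   .two 2 4 5 1,
   .two 3 4 2 0,
   .two 2 1 41 1,
   .two 83 1 2 0,
   .four 3 1 7 1,
   .two 5 1 17 1,
   .two 2 1 43 1,
   .two 3 1 29 1,
   .two 2 3 11 1,
   .two 89 1 2 0,
   .cyc 2,
   .two 7 1 13 1,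
   .two 2 2 23 1,
   .two 3 1 31 1,
   .two 2 1 47 1,
   .two 5 1 19 1,
   .two 2 5 3 1,
   .two 97 1 2 0,
   .two 2 1 7 2,
   .two 3 2 11 1,
   .two 2 2 5 2]

/-- Orders 101 to 200. -/
def rows1 : List Case :=
  [.two 101 1 2 0,
   .cyc 2,
   .two 103 1 2 0,
   .two 2 3 13 1,
   .cyc 3,
   .two 2 1 53 1,
   .two 107 1 2 0,
   .two 2 2 3 3,
   .two 109 1 2 0,
   .cyc 2,
   .two 3 1 37 1,
   .two 2 4 7 1,
   .two 113 1 2 0,
   .cyc 2,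
   .two 5 1 23 1,
   .two 2 2 29 1,
   .two 3 2 13 1,
   .two 2 1 59 1,
   .two 7 1 17 1,
   .three 5 1 3,
   .two 11 2 2 0,
   .two 2 1 61 1,
   .two 3 1 41 1,
   .two 2 2 31 1,
   .two 5 3 2 0,
   .cyc 2,
   .two 127 1 2 0,
   .two 2 7 3 0,
   .two 3 1 43 1,
   .cyc 2,
   .two 131 1 2 0,
   .four 3 1 11 1,
   .two 7 1 19 1,
   .two 2 1 67 1,
   .two 3 3 5 1,
   .two 2 3 17 1,
   .two 137 1 2 0,
   .cyc 2,
   .two 139 1 2 0,
   .four 5 1 7 1,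
   .two 3 1 47 1,
   .two 2 1 71 1,
   .two 11 1 13 1,
   .two 2 4 3 2,
   .two 5 1 29 1,
   .two 2 1 73 1,
   .two 3 1 7 2,
   .two 2 2 37 1,
   .two 149 1 2 0,
   .cyc 2,
   .two 151 1 2 0,
   .two 2 3 19 1,
   .two 3 2 17 1,
   .cyc 2,
   .two 5 1 31 1,
   .four 3 1 13 1,
   .two 157 1 2 0,
   .two 2 1 79 1,
   .two 3 1 53 1,
   .two 2 5 5 1,
   .two 7 1 23 1,
   .two 2 1 3 4,
   .two 163 1 2 0,
   .two 2 2 41 1,
   .cyc 3,
   .two 2 1 83 1,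
   .two 167 1 2 0,
   .known,
   .two 13 2 2 0,
   .cyc 2,
   .two 3 2 19 1,
   .two 2 2 43 1,
   .two 173 1 2 0,
   .cyc 2,
   .two 5 2 7 1,
   .two 2 4 11 1,
   .two 3 1 59 1,
   .two 2 1 89 1,
   .two 179 1 2 0,
   .four 3 2 5 1,
   .two 181 1 2 0,
   .cyc 2,
   .two 3 1 61 1,
   .two 2 3 23 1,
   .two 5 1 37 1,
   .cyc 2,
   .two 11 1 17 1,
   .two 2 2 47 1,
   .two 3 3 7 1,
   .cyc 2,
   .two 191 1 2 0,
   .two 2 6 3 1,
   .two 193 1 2 0,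
   .two 2 1 97 1,
   .cyc 3,
   .two 2 2 7 2,
   .two 197 1 2 0,
   .cyc 2,
   .two 199 1 2 0,
   .two 2 3 5 2]

/-- Orders 201 to 300. -/
def rows2 : List Case :=
  [.two 3 1 67 1,
   .two 2 1 101 1,
   .two 7 1 29 1,
   .four 3 1 17 1,
   .two 5 1 41 1,
   .two 2 1 103 1,
   .two 3 2 23 1,
   .two 2 4 13 1,
   .two 11 1 19 1,
   .cyc 2,
   .two 211 1 2 0,
   .two 2 2 53 1,
   .two 3 1 71 1,
   .two 2 1 107 1,
   .two 5 1 43 1,
   .two 2 3 3 3,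
   .two 7 1 31 1,
   .two 2 1 109 1,
   .two 3 1 73 1,
   .four 5 1 11 1,
   .two 13 1 17 1,
   .cyc 2,
   .two 223 1 2 0,
   .two 2 5 7 1,
   .two 3 2 5 2,
   .two 2 1 113 1,
   .two 227 1 2 0,
   .four 3 1 19 1,
   .two 229 1 2 0,
   .cyc 2,
   .cyc 3,
   .two 2 3 29 1,
   .two 233 1 2 0,
   .cyc 2,
   .two 5 1 47 1,
   .two 2 2 59 1,
   .two 3 1 79 1,
   .cyc 2,
   .two 239 1 2 0,
   .three 5 1 4,
   .two 241 1 2 0,
   .two 2 1 11 2,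
   .two 3 5 2 0,
   .two 2 2 61 1,
   .two 5 1 7 2,
   .cyc 2,
   .two 13 1 19 1,
   .two 2 3 31 1,
   .two 3 1 83 1,
   .two 2 1 5 3,
   .two 251 1 2 0,
   .four 3 2 7 1,
   .two 11 1 23 1,
   .two 2 1 127 1,
   .cyc 3,
   .two 2 8 3 0,
   .two 257 1 2 0,
   .cyc 2,
   .two 7 1 37 1,
   .four 5 1 13 1,
   .two 3 2 29 1,
   .two 2 1 131 1,
   .two 263 1 2 0,
   .three 11 1 3,
   .two 5 1 53 1,
   .cyc 2,
   .two 3 1 89 1,
   .two 2 2 67 1,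
   .two 269 1 2 0,
   .cyc 2,
   .two 271 1 2 0,
   .two 2 4 17 1,
   .cyc 3,
   .two 2 1 137 1,
   .two 5 2 11 1,
   .four 3 1 23 1,
   .two 277 1 2 0,
   .two 2 1 139 1,
   .two 3 2 31 1,
   .search [(5, some (2, 3, 7, 1)), (7, some (2, 3, 5, 1))],
   .two 281 1 2 0,
   .cyc 2,
   .two 283 1 2 0,
   .two 2 2 71 1,
   .cyc 3,
   .cyc 2,
   .two 7 1 41 1,
   .two 2 5 3 2,
   .two 17 2 2 0,
   .cyc 2,
   .two 3 1 97 1,
   .two 2 2 73 1,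
   .two 293 1 2 0,
   .cyc 2,
   .two 5 1 59 1,
   .two 2 3 37 1,
   .two 3 3 11 1,
   .two 2 1 149 1,
   .two 13 1 23 1,
   .four 3 1 5 2]

/-- Orders 301 to 400. -/
def rows3 : List Case :=
  [.two 7 1 43 1,
   .two 2 1 151 1,
   .two 3 1 101 1,
   .two 2 4 19 1,
   .two 5 1 61 1,
   .cyc 2,
   .two 307 1 2 0,
   .four 7 1 11 1,
   .two 3 1 103 1,
   .cyc 2,
   .two 311 1 2 0,
   .three 13 1 3,
   .two 313 1 2 0,
   .two 2 1 157 1,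
   .search [(5, some (3, 2, 7, 1)), (7, some (3, 2, 5, 1))],
   .two 2 2 79 1,
   .two 317 1 2 0,
   .cyc 2,
   .two 11 1 29 1,
   .two 2 6 5 1,
   .two 3 1 107 1,
   .cyc 2,
   .two 17 1 19 1,
   .two 2 2 3 4,
   .two 5 2 13 1,
   .two 2 1 163 1,
   .two 3 1 109 1,
   .two 2 3 41 1,
   .two 7 1 47 1,
   .cyc 2,
   .two 331 1 2 0,
   .two 2 2 83 1,
   .two 3 2 37 1,
   .two 2 1 167 1,
   .two 5 1 67 1,
   .three 7 1 4,
   .two 337 1 2 0,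
   .two 2 1 13 2,
   .two 3 1 113 1,
   .four 5 1 17 1,
   .two 11 1 31 1,
   .cyc 2,
   .two 7 3 2 0,
   .two 2 3 43 1,
   .cyc 3,
   .two 2 1 173 1,
   .two 347 1 2 0,
   .four 3 1 29 1,
   .two 349 1 2 0,
   .cyc 2,
   .two 3 3 13 1,
   .two 2 5 11 1,
   .two 353 1 2 0,
   .cyc 2,
   .two 5 1 71 1,
   .two 2 2 89 1,
   .cyc 3,
   .two 2 1 179 1,
   .two 359 1 2 0,
   .known,
   .two 19 2 2 0,
   .two 2 1 181 1,
   .two 3 1 11 2,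
   .four 7 1 13 1,
   .two 5 1 73 1,
   .cyc 2,
   .two 367 1 2 0,
   .two 2 4 23 1,
   .two 3 2 41 1,
   .cyc 2,
   .two 7 1 53 1,
   .four 3 1 31 1,
   .two 373 1 2 0,
   .cyc 2,
   .two 3 1 5 3,
   .two 2 3 47 1,
   .two 13 1 29 1,
   .cyc 2,
   .two 379 1 2 0,
   .four 5 1 19 1,
   .two 3 1 127 1,
   .two 2 1 191 1,
   .two 383 1 2 0,
   .two 2 7 3 1,
   .cyc 5,
   .two 2 1 193 1,
   .two 3 2 43 1,
   .two 2 2 97 1,
   .two 389 1 2 0,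
   .cyc 2,
   .two 17 1 23 1,
   .two 2 3 7 2,
   .two 3 1 131 1,
   .two 2 1 197 1,
   .two 5 1 79 1,
   .four 3 2 11 1,
   .two 397 1 2 0,
   .two 2 1 199 1,
   .cyc 3,
   .two 2 4 5 2]

/-- Orders 401 to 500. -/
def rows4 : List Case :=
  [.two 401 1 2 0,
   .cyc 2,
   .two 13 1 31 1,
   .two 2 2 101 1,
   .two 3 4 5 1,
   .cyc 2,
   .two 11 1 37 1,
   .three 17 1 3,
   .two 409 1 2 0,
   .cyc 2,
   .two 3 1 137 1,
   .two 2 2 103 1,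
   .two 7 1 59 1,
   .cyc 2,
   .two 5 1 83 1,
   .two 2 5 13 1,
   .two 3 1 139 1,
   .cyc 2,
   .two 419 1 2 0,
   .special,
   .two 421 1 2 0,
   .two 2 1 211 1,
   .two 3 2 47 1,
   .two 2 3 53 1,
   .two 5 2 17 1,
   .cyc 2,
   .two 7 1 61 1,
   .two 2 2 107 1,
   .cyc 3,
   .cyc 2,
   .two 431 1 2 0,
   .two 2 4 3 3,
   .two 433 1 2 0,
   .cyc 2,
   .cyc 3,
   .two 2 2 109 1,
   .two 19 1 23 1,
   .cyc 2,
   .two 439 1 2 0,
   .search [(5, some (2, 3, 11, 1)), (11, some (2, 3, 5, 1))],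
   .two 3 2 7 2,
   .cyc 2,
   .two 443 1 2 0,
   .four 3 1 37 1,
   .two 5 1 89 1,
   .two 2 1 223 1,
   .two 3 1 149 1,
   .two 2 6 7 1,
   .two 449 1 2 0,
   .cyc 2,
   .two 11 1 41 1,
   .two 2 2 113 1,
   .two 3 1 151 1,
   .two 2 1 227 1,
   .cyc 5,
   .three 19 1 3,
   .two 457 1 2 0,
   .two 2 1 229 1,
   .two 3 3 17 1,
   .four 5 1 23 1,
   .two 461 1 2 0,
   .cyc 2,
   .two 463 1 2 0,
   .two 2 4 29 1,
   .cyc 3,
   .two 2 1 233 1,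
   .two 467 1 2 0,
   .four 3 2 13 1,
   .two 7 1 67 1,
   .cyc 2,
   .two 3 1 157 1,
   .two 2 3 59 1,
   .two 11 1 43 1,
   .cyc 2,
   .two 5 2 19 1,
   .four 7 1 17 1,
   .two 3 2 53 1,
   .two 2 1 239 1,
   .two 479 1 2 0,
   .three 5 1 5,
   .two 13 1 37 1,
   .two 2 1 241 1,
   .cyc 3,
   .two 2 2 11 2,
   .two 5 1 97 1,
   .two 2 1 3 5,
   .two 487 1 2 0,
   .two 2 3 61 1,
   .two 3 1 163 1,
   .cyc 2,
   .two 491 1 2 0,
   .four 3 1 41 1,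
   .two 17 1 29 1,
   .cyc 2,
   .search [(5, some (3, 2, 11, 1)), (11, some (3, 2, 5, 1))],
   .two 2 4 31 1,
   .two 7 1 71 1,
   .cyc 2,
   .two 499 1 2 0,
   .two 2 2 5 3]

/-- Orders 501 to 600. -/
def rows5 : List Case :=
  [.two 3 1 167 1,
   .two 2 1 251 1,
   .two 503 1 2 0,
   .known,
   .two 5 1 101 1,
   .cyc 2,
   .two 3 1 13 2,
   .two 2 2 127 1,
   .two 509 1 2 0,
   .cyc 2,
   .two 7 1 73 1,
   .two 2 9 3 0,
   .two 3 3 19 1,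
   .two 2 1 257 1,
   .two 5 1 103 1,
   .four 3 1 43 1,
   .two 11 1 47 1,
   .cyc 2,
   .two 3 1 173 1,
   .search [(5, some (2, 3, 13, 1)), (13, some (2, 3, 5, 1))],
   .two 521 1 2 0,
   .cyc 2,
   .two 523 1 2 0,
   .two 2 2 131 1,
   .cyc 3,
   .two 2 1 263 1,
   .two 17 1 31 1,
   .three 11 1 4,
   .two 23 2 2 0,
   .cyc 2,
   .two 3 2 59 1,
   .four 7 1 19 1,
   .two 13 1 41 1,
   .cyc 2,
   .two 5 1 107 1,
   .two 2 3 67 1,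
   .two 3 1 179 1,
   .two 2 1 269 1,
   .two 7 2 11 1,
   .four 3 3 5 1,
   .two 541 1 2 0,
   .two 2 1 271 1,
   .two 3 1 181 1,
   .two 2 5 17 1,
   .two 5 1 109 1,
   .cyc 2,
   .two 547 1 2 0,
   .two 2 2 137 1,
   .two 3 2 61 1,
   .cyc 2,
   .two 19 1 29 1,
   .three 23 1 3,
   .two 7 1 79 1,
   .two 2 1 277 1,
   .cyc 3,
   .two 2 2 139 1,
   .two 557 1 2 0,
   .cyc 2,
   .two 13 1 43 1,
   .search [(5, some (2, 4, 7, 1)), (7, some (2, 4, 5, 1))],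
   .cyc 3,
   .two 2 1 281 1,
   .two 563 1 2 0,
   .four 3 1 47 1,
   .two 5 1 113 1,
   .two 2 1 283 1,
   .two 3 4 7 1,
   .two 2 3 71 1,
   .two 569 1 2 0,
   .cyc 2,
   .two 571 1 2 0,
   .four 11 1 13 1,
   .two 3 1 191 1,
   .cyc 2,
   .two 5 2 23 1,
   .two 2 6 3 2,
   .two 577 1 2 0,
   .two 2 1 17 2,
   .two 3 1 193 1,
   .four 5 1 29 1,
   .two 7 1 83 1,
   .cyc 2,
   .two 11 1 53 1,
   .two 2 3 73 1,
   .search [(5, some (3, 2, 13, 1)), (13, some (3, 2, 5, 1))],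
   .two 2 1 293 1,
   .two 587 1 2 0,
   .four 3 1 7 2,
   .two 19 1 31 1,
   .cyc 2,
   .two 3 1 197 1,
   .two 2 4 37 1,
   .two 593 1 2 0,
   .cyc 2,
   .cyc 5,
   .two 2 2 149 1,
   .two 3 1 199 1,
   .cyc 2,
   .two 599 1 2 0,
   .three 5 2 3]

/-- Orders 601 to 700. -/
def rows6 : List Case :=
  [.two 601 1 2 0,
   .cyc 2,
   .two 3 2 67 1,
   .two 2 2 151 1,
   .two 5 1 11 2,
   .cyc 2,
   .two 607 1 2 0,
   .two 2 5 19 1,
   .cyc 3,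
   .cyc 2,
   .two 13 1 47 1,
   .four 3 2 17 1,
   .two 613 1 2 0,
   .two 2 1 307 1,
   .cyc 3,
   .search [(7, some (2, 3, 11, 1)), (11, some (2, 3, 7, 1))],
   .two 617 1 2 0,
   .cyc 2,
   .two 619 1 2 0,
   .four 5 1 31 1,
   .two 3 3 23 1,
   .two 2 1 311 1,
   .two 7 1 89 1,
   .three 13 1 4,
   .two 5 4 2 0,
   .two 2 1 313 1,
   .cyc 3,
   .two 2 2 157 1,
   .two 17 1 37 1,
   .cyc 2,
   .two 631 1 2 0,
   .two 2 3 79 1,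
   .two 3 1 211 1,
   .two 2 1 317 1,
   .two 5 1 127 1,
   .four 3 1 53 1,
   .two 7 2 13 1,
   .cyc 2,
   .two 3 2 71 1,
   .two 2 7 5 1,
   .two 641 1 2 0,
   .cyc 2,
   .two 643 1 2 0,
   .four 7 1 23 1,
   .cyc 3,
   .cyc 2,
   .two 647 1 2 0,
   .two 2 3 3 4,
   .two 11 1 59 1,
   .cyc 2,
   .cyc 3,
   .two 2 2 163 1,
   .two 653 1 2 0,
   .cyc 2,
   .two 5 1 131 1,
   .two 2 4 41 1,
   .two 3 2 73 1,
   .cyc 2,
   .two 659 1 2 0,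
   .known,
   .two 661 1 2 0,
   .two 2 1 331 1,
   .cyc 3,
   .two 2 3 83 1,
   .cyc 5,
   .cyc 2,
   .two 23 1 29 1,
   .two 2 2 167 1,
   .two 3 1 223 1,
   .cyc 2,
   .two 11 1 61 1,
   .three 7 1 5,
   .two 673 1 2 0,
   .two 2 1 337 1,
   .two 3 3 5 2,
   .two 2 2 13 2,
   .two 677 1 2 0,
   .cyc 2,
   .two 7 1 97 1,
   .search [(5, some (2, 3, 17, 1)), (17, some (2, 3, 5, 1))],
   .two 3 1 227 1,
   .cyc 2,
   .two 683 1 2 0,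
   .four 3 2 19 1,
   .two 5 1 137 1,
   .two 2 1 7 3,
   .two 3 1 229 1,
   .two 2 4 43 1,
   .two 13 1 53 1,
   .cyc 2,
   .two 691 1 2 0,
   .two 2 2 173 1,
   .search [(7, some (3, 2, 11, 1)), (11, some (3, 2, 7, 1))],
   .two 2 1 347 1,
   .two 5 1 139 1,
   .three 29 1 3,
   .two 17 1 41 1,
   .two 2 1 349 1,
   .two 3 1 233 1,
   .four 5 2 7 1]

/-- Orders 701 to 800. -/
def rows7 : List Case :=
  [.two 701 1 2 0,
   .cyc 2,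
   .two 19 1 37 1,
   .two 2 6 11 1,
   .cyc 3,
   .two 2 1 353 1,
   .two 7 1 101 1,
   .four 3 1 59 1,
   .two 709 1 2 0,
   .cyc 2,
   .two 3 2 79 1,
   .two 2 3 89 1,
   .two 23 1 31 1,
   .cyc 2,
   .cyc 5,
   .two 2 2 179 1,
   .two 3 1 239 1,
   .two 2 1 359 1,
   .two 719 1 2 0,
   .special,
   .two 7 1 103 1,
   .two 2 1 19 2,
   .two 3 1 241 1,
   .two 2 2 181 1,
   .two 5 2 29 1,
   .cyc 2,
   .two 727 1 2 0,
   .search [(7, some (2, 3, 13, 1)), (13, some (2, 3, 7, 1))],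
   .two 3 6 2 0,
   .cyc 2,
   .two 17 1 43 1,
   .four 3 1 61 1,
   .two 733 1 2 0,
   .two 2 1 367 1,
   .cyc 3,
   .two 2 5 23 1,
   .two 11 1 67 1,
   .cyc 2,
   .two 739 1 2 0,
   .four 5 1 37 1,
   .cyc 3,
   .cyc 2,
   .two 743 1 2 0,
   .three 31 1 3,
   .two 5 1 149 1,
   .two 2 1 373 1,
   .two 3 2 83 1,
   .four 11 1 17 1,
   .two 7 1 107 1,
   .cyc 2,
   .two 751 1 2 0,
   .two 2 4 47 1,
   .two 3 1 251 1,
   .cyc 2,
   .two 5 1 151 1,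
   .four 3 3 7 1,
   .two 757 1 2 0,
   .two 2 1 379 1,
   .cyc 3,
   .search [(5, some (2, 3, 19, 1)), (19, some (2, 3, 5, 1))],
   .two 761 1 2 0,
   .cyc 2,
   .two 7 1 109 1,
   .two 2 2 191 1,
   .search [(5, some (3, 2, 17, 1)), (17, some (3, 2, 5, 1))],
   .two 2 1 383 1,
   .two 13 1 59 1,
   .two 2 8 3 1,
   .two 769 1 2 0,
   .cyc 2,
   .two 3 1 257 1,
   .two 2 2 193 1,
   .two 773 1 2 0,
   .cyc 2,
   .two 5 2 31 1,
   .two 2 3 97 1,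
   .cyc 3,
   .two 2 1 389 1,
   .two 19 1 41 1,
   .search [(3, none), (5, none), (13, none)],
   .two 11 1 71 1,
   .cyc 2,
   .two 3 3 29 1,
   .two 2 4 7 2,
   .two 5 1 157 1,
   .cyc 2,
   .two 787 1 2 0,
   .two 2 2 197 1,
   .two 3 1 263 1,
   .cyc 2,
   .two 7 1 113 1,
   .search [(11, some (2, 3, 3, 2))],
   .two 13 1 61 1,
   .two 2 1 397 1,
   .cyc 3,
   .two 2 2 199 1,
   .two 797 1 2 0,
   .cyc 2,
   .two 17 1 47 1,
   .two 2 5 5 2]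

/-- Orders 801 to 900. -/
def rows8 : List Case :=
  [.two 3 2 89 1,
   .two 2 1 401 1,
   .two 11 1 73 1,
   .four 3 1 67 1,
   .cyc 5,
   .cyc 2,
   .two 3 1 269 1,
   .two 2 3 101 1,
   .two 809 1 2 0,
   .cyc 2,
   .two 811 1 2 0,
   .four 7 1 29 1,
   .two 3 1 271 1,
   .cyc 2,
   .two 5 1 163 1,
   .three 17 1 4,
   .two 19 1 43 1,
   .two 2 1 409 1,
   .search [(7, some (3, 2, 13, 1)), (13, some (3, 2, 7, 1))],
   .four 5 1 41 1,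
   .two 821 1 2 0,
   .cyc 2,
   .two 823 1 2 0,
   .two 2 3 103 1,
   .cyc 3,
   .cyc 2,
   .two 827 1 2 0,
   .four 3 2 23 1,
   .two 829 1 2 0,
   .cyc 2,
   .two 3 1 277 1,
   .two 2 6 13 1,
   .two 7 2 17 1,
   .cyc 2,
   .two 5 1 167 1,
   .four 11 1 19 1,
   .two 3 3 31 1,
   .two 2 1 419 1,
   .two 839 1 2 0,
   .special,
   .two 29 2 2 0,
   .two 2 1 421 1,
   .two 3 1 281 1,
   .two 2 2 211 1,
   .two 5 1 13 2,
   .cyc 2,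
   .two 7 1 11 2,
   .two 2 4 53 1,
   .two 3 1 283 1,
   .cyc 2,
   .two 23 1 37 1,
   .four 3 1 71 1,
   .two 853 1 2 0,
   .cyc 2,
   .search [(5, some (3, 2, 19, 1)), (19, some (3, 2, 5, 1))],
   .two 2 3 107 1,
   .two 857 1 2 0,
   .cyc 2,
   .two 859 1 2 0,
   .four 5 1 43 1,
   .cyc 3,
   .two 2 1 431 1,
   .two 863 1 2 0,
   .two 2 5 3 3,
   .two 5 1 173 1,
   .two 2 1 433 1,
   .two 3 1 17 2,
   .four 7 1 31 1,
   .two 11 1 79 1,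
   .cyc 2,
   .two 13 1 67 1,
   .two 2 3 109 1,
   .two 3 2 97 1,
   .cyc 2,
   .two 5 3 7 1,
   .four 3 1 73 1,
   .two 877 1 2 0,
   .two 2 1 439 1,
   .two 3 1 293 1,
   .search [(5, some (2, 4, 11, 1)), (11, some (2, 4, 5, 1))],
   .two 881 1 2 0,
   .cyc 2,
   .two 883 1 2 0,
   .four 13 1 17 1,
   .cyc 3,
   .two 2 1 443 1,
   .two 887 1 2 0,
   .three 37 1 3,
   .two 7 1 127 1,
   .cyc 2,
   .two 3 4 11 1,
   .two 2 2 223 1,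
   .two 19 1 47 1,
   .cyc 2,
   .two 5 1 179 1,
   .two 2 7 7 1,
   .cyc 3,
   .two 2 1 449 1,
   .two 29 1 31 1,
   .four 3 2 5 2]

/-- Orders 901 to 1000. -/
def rows9 : List Case :=
  [.two 17 1 53 1,
   .cyc 2,
   .cyc 3,
   .two 2 3 113 1,
   .two 5 1 181 1,
   .cyc 2,
   .two 907 1 2 0,
   .two 2 2 227 1,
   .two 3 2 101 1,
   .cyc 2,
   .two 911 1 2 0,
   .three 19 1 4,
   .two 11 1 83 1,
   .two 2 1 457 1,
   .cyc 3,
   .two 2 2 229 1,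
   .two 7 1 131 1,
   .cyc 2,
   .two 919 1 2 0,
   .search [(5, some (2, 3, 23, 1)), (23, some (2, 3, 5, 1))],
   .two 3 1 307 1,
   .two 2 1 461 1,
   .two 13 1 71 1,
   .search [(3, none), (7, none), (11, none)],
   .two 5 2 37 1,
   .two 2 1 463 1,
   .two 3 2 103 1,
   .two 2 5 29 1,
   .two 929 1 2 0,
   .cyc 2,
   .two 7 2 19 1,
   .two 2 2 233 1,
   .two 3 1 311 1,
   .two 2 1 467 1,
   .cyc 5,
   .search [(13, some (2, 3, 3, 2))],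
   .two 937 1 2 0,
   .cyc 2,
   .two 3 1 313 1,
   .four 5 1 47 1,
   .two 941 1 2 0,
   .cyc 2,
   .two 23 1 41 1,
   .two 2 4 59 1,
   .search [(5, some (3, 3, 7, 1)), (7, some (3, 3, 5, 1))],
   .cyc 2,
   .two 947 1 2 0,
   .four 3 1 79 1,
   .two 13 1 73 1,
   .cyc 2,
   .two 3 1 317 1,
   .search [(7, some (2, 3, 17, 1)), (17, some (2, 3, 7, 1))],
   .two 953 1 2 0,
   .cyc 2,
   .two 5 1 191 1,
   .two 2 2 239 1,
   .cyc 3,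
   .two 2 1 479 1,
   .two 7 1 137 1,
   .three 5 1 6,
   .two 31 2 2 0,
   .cyc 2,
   .two 3 2 107 1,
   .two 2 2 241 1,
   .two 5 1 193 1,
   .cyc 2,
   .two 967 1 2 0,
   .two 2 3 11 2,
   .cyc 3,
   .cyc 2,
   .two 971 1 2 0,
   .two 2 2 3 5,
   .two 7 1 139 1,
   .two 2 1 487 1,
   .cyc 3,
   .two 2 4 61 1,
   .two 977 1 2 0,
   .cyc 2,
   .two 11 1 89 1,
   .four 5 1 7 2,
   .two 3 2 109 1,
   .two 2 1 491 1,
   .two 983 1 2 0,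
   .three 41 1 3,
   .two 5 1 197 1,
   .cyc 2,
   .cyc 3,
   .four 13 1 19 1,
   .two 23 1 43 1,
   .cyc 2,
   .two 991 1 2 0,
   .two 2 5 31 1,
   .two 3 1 331 1,
   .cyc 2,
   .two 5 1 199 1,
   .four 3 1 83 1,
   .two 997 1 2 0,
   .two 2 1 499 1,
   .two 3 3 37 1,
   .two 2 3 5 3]

/-- Orders 1001 to 1092. -/
def rows10 : List Case :=
  [.cyc 7,
   .cyc 2,
   .two 17 1 59 1,
   .two 2 2 251 1,
   .cyc 3,
   .two 2 1 503 1,
   .two 19 1 53 1,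
   .search [(7, some (2, 4, 3, 2))],
   .two 1009 1 2 0,
   .cyc 2,
   .two 3 1 337 1,
   .four 11 1 23 1,
   .two 1013 1 2 0,
   .cyc 2,
   .cyc 5,
   .two 2 3 127 1,
   .two 3 2 113 1,
   .two 2 1 509 1,
   .two 1019 1 2 0,
   .search [(3, none), (5, none), (17, none)],
   .two 1021 1 2 0,
   .cyc 2,
   .cyc 3,
   .two 2 10 3 0,
   .two 5 2 41 1,
   .cyc 2,
   .two 13 1 79 1,
   .two 2 2 257 1,
   .two 3 1 7 3,
   .cyc 2,
   .two 1031 1 2 0,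
   .three 43 1 3,
   .two 1033 1 2 0,
   .cyc 2,
   .search [(5, some (3, 2, 23, 1)), (23, some (3, 2, 5, 1))],
   .four 7 1 37 1,
   .two 17 1 61 1,
   .cyc 2,
   .two 1039 1 2 0,
   .search [(5, some (2, 4, 13, 1)), (13, some (2, 4, 5, 1))],
   .two 3 1 347 1,
   .two 2 1 521 1,
   .two 7 1 149 1,
   .four 3 2 29 1,
   .cyc 5,
   .two 2 1 523 1,
   .two 3 1 349 1,
   .two 2 3 131 1,
   .two 1049 1 2 0,
   .cyc 2,
   .two 1051 1 2 0,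
   .two 2 2 263 1,
   .two 3 4 13 1,
   .cyc 2,
   .two 5 1 211 1,
   .three 11 1 5,
   .two 7 1 151 1,
   .two 2 1 23 2,
   .two 3 1 353 1,
   .four 5 1 53 1,
   .two 1061 1 2 0,
   .cyc 2,
   .two 1063 1 2 0,
   .search [(7, some (2, 3, 19, 1)), (19, some (2, 3, 7, 1))],
   .cyc 3,
   .cyc 2,
   .two 11 1 97 1,
   .four 3 1 89 1,
   .two 1069 1 2 0,
   .cyc 2,
   .search [(7, some (3, 2, 17, 1)), (17, some (3, 2, 7, 1))],
   .two 2 4 67 1,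
   .two 29 1 37 1,
   .cyc 2,
   .two 5 2 43 1,
   .two 2 2 269 1,
   .two 3 1 359 1,
   .cyc 2,
   .two 13 1 83 1,
   .search [(5, some (2, 3, 3, 3))],
   .two 23 1 47 1,
   .two 2 1 541 1,
   .two 3 1 19 2,
   .two 2 2 271 1,
   .cyc 5,
   .cyc 2,
   .two 1087 1 2 0,
   .two 2 6 17 1,
   .two 3 2 11 2,
   .cyc 2,
   .two 1091 1 2 0,
   .known]

theorem rows0_valid : checkFrom 1 rows0 = true := by decide +kernel

theorem rows1_valid : checkFrom 101 rows1 = true := by decide +kernel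

theorem rows2_valid : checkFrom 201 rows2 = true := by decide +kernel

theorem rows3_valid : checkFrom 301 rows3 = true := by decide +kernel

theorem rows4_valid : checkFrom 401 rows4 = true := by decide +kernel

theorem rows5_valid : checkFrom 501 rows5 = true := by decide +kernel

theorem rows6_valid : checkFrom 601 rows6 = true := by decide +kernel

theorem rows7_valid : checkFrom 701 rows7 = true := by decide +kernel

theorem rows8_valid : checkFrom 801 rows8 = true := by decide +kernel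

theorem rows9_valid : checkFrom 901 rows9 = true := by decide +kernel

theorem rows10_valid : checkFrom 1001 rows10 = true := by decide +kernel

end CfsgLib.OrderBound
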